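import Groth.Prelude.Def_W4c1limliniiiiRamP1
import Mathlib.RingTheory.GradedAlgebra.Homogeneous.Ideal
import Mathlib.RingTheory.GradedAlgebra.Homogeneous.Maps
import Mathlib.RingTheory.Localization.Away.Basic
import Mathlib.RingTheory.LocalRing.ResidueField.Ideal
import Mathlib.RingTheory.DiscreteValuationRing.Basic
import Mathlib.RingTheory.Flat.Basic
import Mathlib.RingTheory.Flat.TorsionFree
import Mathlib.RingTheory.Nilpotent.Lemmas
import Mathlib.RingTheory.TensorProduct.Quotient
import Mathlib.RingTheory.Localization.Module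
import Mathlib.RingTheory.GradedAlgebra.Basic
import Mathlib.RingTheory.Nakayama
import Mathlib.Algebra.CharP.Lemmas
import Mathlib.Tactic

/-!
Assorted small lemmas (third batch).
-/

universe u v w

open TensorProduct

namespace Groth.Agent.SmallH9c

open DirectSum in
theorem irrelevant_map {R : Type u} {A : Type v} {B : Type w} [CommRing R] [CommRing A]
    [CommRing B] [Algebra R A] [Algebra R B] [Algebra A B]
    (𝒜 : ℕ → Submodule R A) [GradedAlgebra 𝒜] (ℬ : ℕ → Submodule R B) [GradedAlgebra ℬ]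
    (σ : A) (hσ0 : σ ∈ 𝒜 0) [IsLocalization.Away σ B]
    (ι : 𝒜 →+*ᵍ ℬ) (hι : ∀ a : A, ι a = algebraMap A B a) :
    (HomogeneousIdeal.irrelevant 𝒜).map ι = HomogeneousIdeal.irrelevant ℬ := by
  classical
  refine le_antisymm ?_ ?_
  · rw [HomogeneousIdeal.map_le_iff_le_comap]
    intro a ha
    rw [HomogeneousIdeal.mem_irrelevant_iff, GradedRing.proj_apply] at ha
    show ι a ∈ HomogeneousIdeal.irrelevant ℬ
    rw [HomogeneousIdeal.mem_irrelevant_iff, GradedRing.proj_apply, ← ι.map_directSumDecompose,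
      ha, map_zero]
  · intro b hb
    have hdec := DirectSum.sum_support_decompose ℬ b
    rw [HomogeneousIdeal.mem_irrelevant_iff] at hb
    show b ∈ ((HomogeneousIdeal.irrelevant 𝒜).map ι).toIdeal
    rw [HomogeneousIdeal.toIdeal_map, ← hdec]
    refine Ideal.sum_mem _ fun i _ => ?_
    obtain ⟨x, hx⟩ : ∃ x, (decompose ℬ b i : B) = x := ⟨_, rfl⟩
    rw [hx]
    rcases Nat.eq_zero_or_pos i with rfl | hi
    · rw [← hx]
      rw [GradedRing.proj_apply] at hb
      rw [hb]
      exact Ideal.zero_mem _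
    obtain ⟨⟨a, s, hs⟩, e⟩ := IsLocalization.surj (Submonoid.powers σ) x
    obtain ⟨n, rfl⟩ := hs
    have hxmem : x ∈ ℬ i := hx ▸ (decompose ℬ b i).2
    have hσB : algebraMap A B (σ ^ n) ∈ ℬ 0 := by
      rw [← hι]
      exact Graded.map_mem ι (by simpa using SetLike.pow_mem_graded n hσ0)
    have hax : algebraMap A B a ∈ ℬ i := by
      rw [← e]
      simpa using SetLike.mul_mem_graded hxmem hσB
    have hai : algebraMap A B (decompose 𝒜 a i : A) = algebraMap A B a := by
      rw [← hι, ι.map_directSumDecompose, hι,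
        decompose_of_mem_same ℬ hax]
    have hmem : (decompose 𝒜 a i : A) ∈ (HomogeneousIdeal.irrelevant 𝒜).toIdeal := by
      show (decompose 𝒜 a i : A) ∈ HomogeneousIdeal.irrelevant 𝒜
      rw [HomogeneousIdeal.mem_irrelevant_iff, GradedRing.proj_apply,
        decompose_of_mem_ne 𝒜 (decompose 𝒜 a i).2 hi.ne']
    obtain ⟨w, hw⟩ : IsUnit (algebraMap A B (σ ^ n)) :=
      IsLocalization.map_units B (⟨σ ^ n, n, rfl⟩ : Submonoid.powers σ)
    have hxe : x = algebraMap A B (decompose 𝒜 a i : A) * ((w⁻¹ : Bˣ) : B) := by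
      rw [hai, ← e, ← hw, mul_assoc, Units.mul_inv, mul_one]
    rw [hxe]
    refine Ideal.mul_mem_right _ _ ?_
    rw [← hι]
    exact Ideal.mem_map_of_mem _ hmem

theorem reduced_and_flat (A : Type u) [CommRing A] [IsDomain A] [IsDiscreteValuationRing A]
    (B : Type v) [CommRing B] [Algebra A B] [IsNoetherianRing B] (hirr : (nilradical B).IsPrime)
    (hdom : (nilradical B).comap (algebraMap A B) = ⊥)
    (hfib : ∀ p : PrimeSpectrum A, IsReduced (p.asIdeal.ResidueField ⊗[A] B)) :
    IsReduced B ∧ Module.Flat A B := by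
  classical
  obtain ⟨ϖ, hϖ⟩ := IsDiscreteValuationRing.exists_irreducible A
  have hm : IsLocalRing.maximalIdeal A = Ideal.span {ϖ} := hϖ.maximalIdeal_eq
  obtain ⟨P, hP⟩ : ∃ P, nilradical B = P := ⟨_, rfl⟩
  obtain ⟨b, hb⟩ : ∃ b, algebraMap A B ϖ = b := ⟨_, rfl⟩
  have hbP : b ∉ P := by
    intro h
    rw [← hb, ← hP, ← Ideal.mem_comap, hdom, Ideal.mem_bot] at h
    exact hϖ.ne_zero h
  -- closed fibre: nilpotents are multiples of the uniformizer
  have h1 : ∀ x : B, IsNilpotent x → ∃ y, x = b * y := by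
    intro x hx
    let m : PrimeSpectrum A := ⟨IsLocalRing.maximalIdeal A, inferInstance⟩
    have := hfib m
    have hz : (1 : m.asIdeal.ResidueField) ⊗ₜ[A] x = 0 :=
      IsReduced.eq_zero _ (hx.map (Algebra.TensorProduct.includeRight :
        B →ₐ[A] m.asIdeal.ResidueField ⊗[A] B))
    let q : B →ₐ[A] B ⧸ Ideal.span {b} := Ideal.Quotient.mkₐ A _
    let r : m.asIdeal.ResidueField →ₐ[A] B ⧸ Ideal.span {b} :=
      Ideal.ResidueField.liftₐ (R := A) m.asIdeal (Algebra.ofId A _) (by
        show IsLocalRing.maximalIdeal A ≤ _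
        rw [hm, Ideal.span_le, Set.singleton_subset_iff, SetLike.mem_coe, RingHom.mem_ker]
        show algebraMap A (B ⧸ Ideal.span {b}) ϖ = 0
        rw [IsScalarTower.algebraMap_apply A B, hb, Ideal.Quotient.algebraMap_eq,
          Ideal.Quotient.eq_zero_iff_mem]
        exact Ideal.mem_span_singleton_self b) (by
        intro a ha
        have : IsUnit a := not_not.mp fun h => ha ((IsLocalRing.mem_maximalIdeal a).mpr h)
        exact this.map _)
    have h := congrArg (Algebra.TensorProduct.lift r q (fun _ _ => Commute.all _ _)) hz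
    rw [Algebra.TensorProduct.lift_tmul, map_one, one_mul, map_zero] at h
    obtain ⟨y, hy⟩ := Ideal.mem_span_singleton'.mp (Ideal.Quotient.eq_zero_iff_mem.mp h)
    exact ⟨y, by rw [← hy, mul_comm]⟩
  -- generic fibre: nilpotents are killed by a power of the uniformizer
  have h2 : ∀ x : B, IsNilpotent x → ∃ N : ℕ, b ^ N * x = 0 := by
    intro x hx
    let g : PrimeSpectrum A := ⟨⊥, Ideal.bot_prime⟩
    have := hfib g
    have hz : (1 : g.asIdeal.ResidueField) ⊗ₜ[A] x = 0 :=
      IsReduced.eq_zero _ (hx.map (Algebra.TensorProduct.includeRight :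
        B →ₐ[A] g.asIdeal.ResidueField ⊗[A] B))
    let r : g.asIdeal.ResidueField →ₐ[A] FractionRing A :=
      Ideal.ResidueField.liftₐ (R := A) g.asIdeal (Algebra.ofId A _) bot_le (by
        intro a ha
        exact IsLocalization.map_units (FractionRing A)
          (⟨a, mem_nonZeroDivisors_of_ne_zero fun h => ha (Ideal.mem_bot.mpr h)⟩ : nonZeroDivisors A))
    have h := congrArg (LinearMap.rTensor B r.toLinearMap) hz
    rw [LinearMap.rTensor_tmul, map_zero, AlgHom.toLinearMap_apply, map_one] at h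
    obtain ⟨⟨c, hc⟩, hcx⟩ := (IsLocalizedModule.eq_zero_iff (nonZeroDivisors A)
      (TensorProduct.mk A (FractionRing A) B 1)).mp h
    obtain ⟨N, w, rfl⟩ := IsDiscreteValuationRing.eq_unit_mul_pow_irreducible
      (nonZeroDivisors.ne_zero hc) hϖ
    refine ⟨N, ?_⟩
    have hcx' : algebraMap A B (↑w * ϖ ^ N) * x = 0 := by
      rw [← Algebra.smul_def]; exact hcx
    rw [map_mul, map_pow, hb, mul_assoc] at hcx'
    exact ((w.isUnit.map (algebraMap A B)).mul_right_eq_zero).mp hcx'
  -- Nakayama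
  have hle : P ≤ Ideal.span {b} • P := by
    intro x hx
    obtain ⟨y, rfl⟩ := h1 x (mem_nilradical.mp (hP ▸ hx))
    have hy : y ∈ P := ((hP ▸ hirr : P.IsPrime).mem_or_mem hx).resolve_left hbP
    exact Submodule.smul_mem_smul (Ideal.mem_span_singleton_self b) hy
  obtain ⟨r, hr1, hr⟩ := Submodule.exists_sub_one_mem_and_smul_eq_zero_of_fg_of_le_smul
    (Ideal.span {b}) P (IsNoetherian.noetherian P) hle
  obtain ⟨t, ht⟩ := Ideal.mem_span_singleton'.mp hr1
  have hP0 : P = ⊥ := by
    refine eq_bot_iff.mpr fun x hx => ?_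
    obtain ⟨N, hN⟩ := h2 x (mem_nilradical.mp (hP ▸ hx))
    have hrx : r * x = 0 := hr x hx
    have hxb : x = -t * b * x := by
      have : (t * b) * x = (r - 1) * x := by rw [ht]
      linear_combination this + hrx
    rw [Ideal.mem_bot]
    have hpow : ∀ k : ℕ, x = (-t) ^ k * (b ^ k * x) := by
      intro k
      induction k with
      | zero => simp
      | succ k ih =>
        calc x = (-t) ^ k * (b ^ k * x) := ih
          _ = (-t) ^ k * (b ^ k * (-t * b * x)) := by rw [← hxb]
          _ = _ := by ring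
    rw [hpow N, hN, mul_zero]
  have hred : IsReduced B := ⟨fun x hx => by
    have : x ∈ P := hP ▸ mem_nilradical.mpr hx
    rwa [hP0, Ideal.mem_bot] at this⟩
  refine ⟨hred, ?_⟩
  have hpr : (⊥ : Ideal B).IsPrime := hP0 ▸ hP ▸ hirr
  have : IsDomain B := IsDomain.of_bot_isPrime B
  have hinj : Function.Injective (algebraMap A B) := by
    rw [RingHom.injective_iff_ker_eq_bot, RingHom.ker]
    rw [hP, hP0] at hdom
    exact hdom
  have : Module.IsTorsionFree A B := Module.isTorsionFree_iff_smul_eq_zero.mpr fun c x h => by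
    rw [Algebra.smul_def, mul_eq_zero] at h
    exact h.imp_left fun h => hinj (h.trans (map_zero _).symm)
  infer_instance

open Polynomial W4c1limliniiii in
theorem hasRamIdx_of_wronskian (k : Type u) [Field k] (p : ℕ) [CharP k p]
    (d : ℕ) (F G : k[X]) (hV : IsPencil d (Submodule.span k {F, G}))
    (hW : Polynomial.wronskian F G ≠ 0) (a : k) (e : ℕ)
    (he : (Polynomial.wronskian F G).rootMultiplicity a + 1 = e) (hp : p = 0 ∨ e - 1 < p) :
    HasRamIdx (Submodule.span k {F, G}) a e ∧ ¬ p ∣ e := by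
  obtain ⟨F₀, hF₀, hF₀a⟩ := hV.2.2.2 a
  obtain ⟨H, hH, hH0, hHa⟩ : ∃ H ∈ Submodule.span k ({F, G} : Set k[X]),
      H ≠ 0 ∧ H.eval a = 0 := by
    by_cases hF : F.eval a = 0
    · refine ⟨F, Submodule.subset_span (by simp), ?_, hF⟩
      rintro rfl
      simp [Polynomial.wronskian] at hW
    · refine ⟨F.eval a • G - G.eval a • F, sub_mem
        (Submodule.smul_mem _ _ (Submodule.subset_span (by simp)))
        (Submodule.smul_mem _ _ (Submodule.subset_span (by simp))), ?_, by simp [mul_comm]⟩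
      intro h
      have hG : G = (G.eval a / F.eval a) • F := by
        rw [div_eq_inv_mul, mul_smul, ← sub_eq_zero.mp h, inv_smul_smul₀ hF]
      rw [hG] at hW
      simp [Polynomial.wronskian, mul_comm] at hW
  obtain ⟨α, β, hαβ⟩ := Submodule.mem_span_pair.mp hF₀
  obtain ⟨γ, δ, hγδ⟩ := Submodule.mem_span_pair.mp hH
  have hWW : Polynomial.wronskian F₀ H = (α * δ - β * γ) • Polynomial.wronskian F G := by
    simp only [← hαβ, ← hγδ, Polynomial.wronskian, derivative_add, smul_eq_C_mul,
      derivative_mul, derivative_C, map_sub, map_mul]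
    ring
  have hdet : α * δ - β * γ ≠ 0 := by
    intro h
    have h1 : δ • F₀ - β • H = 0 := by
      rw [← hαβ, ← hγδ, smul_add, smul_add, smul_smul, smul_smul, smul_smul, smul_smul,
        mul_comm δ α, mul_comm δ β, sub_eq_zero.mp h]
      abel
    have h2 := congrArg (Polynomial.eval a) h1
    simp [hHa, hF₀a] at h2
    rw [h2, zero_smul, zero_sub, neg_eq_zero, smul_eq_zero, or_iff_left hH0] at h1
    rw [h1, zero_smul, add_zero] at hαβ
    rw [h2, zero_smul, add_zero] at hγδ
    have h3 := congrArg (Polynomial.eval a) hαβ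
    have h4 := congrArg (Polynomial.eval a) hγδ
    rw [eval_smul, smul_eq_mul] at h3 h4
    rw [hHa] at h4
    have h5 : γ = 0 := (mul_eq_zero.mp h4).resolve_right (fun h5 => hF₀a (by rw [← h3, h5, mul_zero]))
    exact hH0 (by rw [← hγδ, h5, zero_smul])
  obtain ⟨u, hu⟩ := Polynomial.exists_eq_pow_rootMultiplicity_mul_and_not_dvd H hH0 a
  obtain ⟨hu, hua⟩ := hu
  rw [Polynomial.dvd_iff_isRoot] at hua
  obtain ⟨m, hm⟩ : ∃ m, Polynomial.rootMultiplicity a H = m + 1 :=
    ⟨_, (Nat.succ_pred_eq_of_pos ((Polynomial.rootMultiplicity_pos hH0).mpr hHa)).symm⟩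
  rw [hm] at hu
  obtain ⟨T, hT⟩ : ∃ T, T = C ((m : k) + 1) * (F₀ * u)
      + (X - C a) * (F₀ * derivative u - derivative F₀ * u) := ⟨_, rfl⟩
  have hWT : Polynomial.wronskian F₀ H = (X - C a) ^ m * T := by
    rw [hu, hT, Polynomial.wronskian]
    simp [derivative_mul, derivative_pow_succ]
    ring
  have hT0 : T ≠ 0 := fun h => hdet (by
    have : Polynomial.wronskian F₀ H = 0 := by rw [hWT, h, mul_zero]
    rw [hWW, smul_eq_zero] at this
    exact this.resolve_right hW)
  have hmult : e = m + T.rootMultiplicity a + 1 := by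
    have h1 : (Polynomial.wronskian F₀ H).rootMultiplicity a
        = (Polynomial.wronskian F G).rootMultiplicity a := by
      rw [hWW, smul_eq_C_mul, Polynomial.rootMultiplicity_mul
        (mul_ne_zero (C_ne_zero.mpr hdet) hW), Polynomial.rootMultiplicity_C, zero_add]
    rw [← he, ← h1, hWT, Polynomial.rootMultiplicity_mul
      (mul_ne_zero (pow_ne_zero _ (X_sub_C_ne_zero a)) hT0), Polynomial.rootMultiplicity_X_sub_C_pow]
  have hmk : ((m : k) + 1) ≠ 0 := by
    intro h
    have h0 : T.eval a = 0 := by rw [hT, h]; simp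
    have h1 : 0 < T.rootMultiplicity a := (Polynomial.rootMultiplicity_pos hT0).mpr h0
    have h2 : p ∣ m + 1 := (CharP.cast_eq_zero_iff k p (m + 1)).mp (by push_cast; exact h)
    rcases hp with rfl | hp
    · simp at h2
    · have := Nat.le_of_dvd (Nat.succ_pos m) h2
      omega
  have hTa : T.rootMultiplicity a = 0 := by
    apply Polynomial.rootMultiplicity_eq_zero
    rw [Polynomial.IsRoot.def, hT]
    simp [hmk, hF₀a]
    exact hua
  have hem : e = m + 1 := by omega
  refine ⟨⟨⟨H, hH, hH0, by omega⟩, fun s hs hs0 => ?_⟩, fun h => hmk ?_⟩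
  · obtain ⟨x, y, rfl⟩ : ∃ x y : k, x • F₀ + y • H = s := by
      obtain ⟨f, g, rfl⟩ := Submodule.mem_span_pair.mp hs
      have hd' : δ * α - γ * β ≠ 0 := by rwa [mul_comm δ, mul_comm γ]
      refine ⟨(f * δ - g * γ) / (α * δ - β * γ), (g * α - f * β) / (α * δ - β * γ), ?_⟩
      rw [← hαβ, ← hγδ]
      match_scalars
      all_goals field_simp
      all_goals ring
    by_cases hx : x = 0
    · subst hx
      rw [zero_smul, zero_add] at hs0 ⊢
      rw [smul_eq_C_mul, Polynomial.rootMultiplicity_mul (by rwa [← smul_eq_C_mul]),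
        Polynomial.rootMultiplicity_C, zero_add]
      omega
    · rw [Polynomial.rootMultiplicity_eq_zero (by simp [hHa, hx, hF₀a])]
      exact Nat.zero_le _
  · have := (CharP.cast_eq_zero_iff k p e).mpr h
    rw [hem] at this
    exact_mod_cast this

end Groth.Agent.SmallH9c
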